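import Cfsg.Agent.H114.StRegular
import Cfsg.Agent.Tits.Labels
import Cfsg.Agent.H460.IFO.StReal
import Cfsg.Agent.H209.IF.Defs

/-!
# S5719, `|A|` odd: subgroups of odd order of a group with a (B,N)-pair (helper138)

`bn_index` : `P` a (B,N)-pair of the finite group `G`, `B = U T`, `N` normalises `T`, some `g ∈ N` with
`U ∩ B ^ g = 1`, `|U|` odd: a subgroup of odd order has index at least `|U|` (Steinberg character).
-/

set_option autoImplicit false
set_option linter.unusedSectionVars false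

namespace Cfsg.Agent.H138.IF

open Cfsg Cfsg.Agent.LieExceptional.BNPairCore Cfsg.Agent.Tits.Core Cfsg.Agent.Tits.Core.Bldg Cfsg.Agent.Tits.OfBN
  Cfsg.Agent.Tits.Exchange
open scoped ComplexConjugate

universe u

variable {G : Type u} [Group G] [Finite G]

theorem card_orbit_odd {U : Subgroup G} {α : Type*} [MulAction G α] (a : α) (hU : Odd (Nat.card U))
    {s : Set α} (hs : s = {y | ∃ u ∈ U, u • a = y}) : Odd (Nat.card s) ∧ Nat.card s ≤ Nat.card U := by
  have h1 : s = MulAction.orbit U a := by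
    rw [hs]
    ext y
    constructor
    · rintro ⟨u, hu, rfl⟩
      exact ⟨⟨u, hu⟩, rfl⟩
    · rintro ⟨⟨u, hu⟩, rfl⟩
      exact ⟨u, hu, rfl⟩
  have h2 : Nat.card (MulAction.orbit U a) * Nat.card (MulAction.stabilizer U a) = Nat.card U := by
    rw [Nat.card_congr (MulAction.orbitEquivQuotientStabilizer U a)]
    exact (Subgroup.card_eq_card_quotient_mul_card_subgroup _).symm
  rw [h1]
  refine ⟨hU.of_dvd_nat (Dvd.intro _ h2), ?_⟩
  rw [← h2]
  exact Nat.le_mul_of_pos_right _ Nat.card_pos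

/-- **Subgroups of odd order of a group with a (B,N)-pair.** -/
theorem bn_index (P : Cfsg.BNPair G) (U T : Subgroup G) (hUB : U ≤ P.B) (hTB : T ≤ P.B)
    (hB : ∀ b ∈ P.B, ∃ u ∈ U, ∃ t ∈ T, b = u * t) (hN : ∀ n ∈ P.N, ∀ t ∈ T, n⁻¹ * t * n ∈ T)
    {g : G} (hg : g ∈ P.N) (hfree : ∀ u ∈ U, g⁻¹ * u * g ∈ P.B → u = 1) (hodd : Odd (Nat.card U))
    {X : Subgroup G} (hX : Odd (Nat.card X)) : Nat.card U ≤ X.index := by
  classical
  obtain ⟨M, hN0, cs, hcs⟩ := Cfsg.Agent.Tits.Labels.exists_bnType P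
  have := Fintype.ofFinite P.S
  have := Fintype.ofFinite (G ⧸ P.B)
  have hfW : Finite (WP P) := Quotient.finite _
  set Δ : Bldg cs (G ⧸ P.B) := bldg P (Equiv.refl P.S) cs hcs with hΔ
  have hiso : ∀ (x : G) (a b : G ⧸ P.B), Δ.δ (x • a) (x • b) = Δ.δ a b := fun x a b => dist_smul P x a b
  have htr : ∀ x y x' y', Δ.δ x y = Δ.δ x' y' → ∃ g : G, g • x = x' ∧ g • y = y' := fun x y x' y' h => trans P x y x' y' h
  have hδ : ∀ a b : G, Δ.δ (QuotientGroup.mk a) (QuotientGroup.mk b) = wt P (a⁻¹ * b) := fun a b => dist_mk P a b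
  have hwtN : ∀ n : P.N, wt P (n : G) = QuotientGroup.mk n := fun n => wt_of_mem P (self_mem_C _)
  -- apartment
  let a : WP P → G ⧸ P.B := fun w => QuotientGroup.mk ((Quotient.out w : P.N) : G)
  have ha' : ∀ (v w : WP P) (m n : P.N), (QuotientGroup.mk m : WP P) = v → (QuotientGroup.mk n : WP P) = w →
      Δ.δ (QuotientGroup.mk (m : G)) (QuotientGroup.mk (n : G)) = v⁻¹ * w := by
    rintro _ _ m n rfl rfl
    rw [hδ]
    have h1 : (m : G)⁻¹ * (n : G) = ((m⁻¹ * n : P.N) : G) := rfl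
    rw [h1, hwtN]
    rfl
  have ha : ∀ v w, Δ.δ (a v) (a w) = v⁻¹ * w := fun v w => ha' v w _ _ (Quotient.out_eq _) (Quotient.out_eq _)
  let c : G ⧸ P.B := QuotientGroup.mk 1
  obtain ⟨h1, h2⟩ := Cfsg.Agent.H167.AltBldg.exists_char_alt Δ hiso htr a ha c
    (fun K => Cfsg.Agent.H114.StRegular.stabRes Δ hiso c K) (fun K x => Cfsg.Agent.H114.StRegular.mem_stabRes Δ hiso)
  set χ : G → ℂ := fun x => ∑ K ∈ (Finset.univ : Finset P.S).powerset, (-1 : ℂ) ^ K.card *
      fixedPointCharacter (Cfsg.Agent.H114.StRegular.stabRes Δ hiso c K) x with hχ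
  have hreal : ∀ x, conj (χ x) = χ x := by
    intro x
    rw [hχ]
    simp only [map_sum, map_mul, map_pow, map_neg, map_one, fixedPointCharacter, Complex.conj_natCast]
  -- the opposite chambers
  obtain ⟨n0, hn0⟩ := QuotientGroup.mk_surjective (w0 cs)
  have hc1 : Δ.δ c (QuotientGroup.mk (n0 : G)) = w0 cs := by
    have := ha' 1 (w0 cs) 1 n0 rfl hn0
    rwa [inv_one, one_mul] at this
  have hset : {y : G ⧸ P.B | Δ.Opp c y} = {y | ∃ u ∈ U, u • (QuotientGroup.mk (n0 : G) : G ⧸ P.B) = y} := by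
    ext y
    constructor
    · intro hy
      obtain ⟨x, hx1, hx2⟩ := htr c (QuotientGroup.mk (n0 : G)) c y (hc1.trans (Eq.symm hy))
      have hxB : x ∈ P.B := by
        have h3 : (QuotientGroup.mk (x * 1) : G ⧸ P.B) = QuotientGroup.mk 1 := hx1
        rw [mul_one, eq_comm, QuotientGroup.eq, inv_one, one_mul] at h3
        exact h3
      obtain ⟨u, hu, t, ht, rfl⟩ := hB x hxB
      refine ⟨u, hu, ?_⟩
      rw [← hx2]
      show (QuotientGroup.mk (u * n0) : G ⧸ P.B) = QuotientGroup.mk (u * t * n0)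
      rw [QuotientGroup.eq]
      have h3 : (u * (n0 : G))⁻¹ * (u * t * n0) = (n0 : G)⁻¹ * t * n0 := by group
      rw [h3]
      exact hTB (hN _ n0.2 t ht)
    · rintro ⟨u, hu, rfl⟩
      have h3 : u • c = c := by
        show (QuotientGroup.mk (u * 1) : G ⧸ P.B) = QuotientGroup.mk 1
        rw [eq_comm, QuotientGroup.eq]
        simpa using hUB hu
      have h4 := hiso u c (QuotientGroup.mk (n0 : G))
      rw [h3] at h4
      exact h4.trans hc1
  obtain ⟨ho1, ho2⟩ := card_orbit_odd (U := U) (QuotientGroup.mk (n0 : G) : G ⧸ P.B) hodd hset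
  -- freeness
  have hfr : ∀ u ∈ U, u • (QuotientGroup.mk (n0 : G) : G ⧸ P.B) = QuotientGroup.mk (n0 : G) → u = 1 := by
    intro u hu hu0
    have h3 : u • c = c := by
      show (QuotientGroup.mk (u * 1) : G ⧸ P.B) = QuotientGroup.mk 1
      rw [eq_comm, QuotientGroup.eq]
      simpa using hUB hu
    let w : WP P := QuotientGroup.mk ⟨g, hg⟩
    have e1 : Δ.δ c (QuotientGroup.mk g) = w := by
      have := ha' 1 w 1 ⟨g, hg⟩ rfl rfl
      rwa [inv_one, one_mul] at this
    have e2 : Δ.δ (QuotientGroup.mk g) (QuotientGroup.mk (n0 : G)) = w⁻¹ * w0 cs := ha' w (w0 cs) ⟨g, hg⟩ n0 rfl hn0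
    have hl : cs.length (w * (w⁻¹ * w0 cs)) = cs.length w + cs.length (w⁻¹ * w0 cs) := by
      rw [mul_inv_cancel_left]
      have := length_mul_w0 cs w⁻¹
      rw [cs.length_inv] at this
      omega
    have h4 := Δ.between_unique hl e1 e2 (y' := u • (QuotientGroup.mk g : G ⧸ P.B)) (by rw [← h3, hiso, e1])
      (by rw [← hu0, hiso, e2])
    apply hfree u hu
    have h5 : (QuotientGroup.mk g : G ⧸ P.B) = QuotientGroup.mk (u * g) := h4
    rw [QuotientGroup.eq] at h5
    rwa [← mul_assoc] at h5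
  have hle : Nat.card U ≤ Nat.card {y : G ⧸ P.B | Δ.Opp c y} := by
    refine Nat.card_le_card_of_injective (fun u : U => (⟨(u : G) • (QuotientGroup.mk (n0 : G) : G ⧸ P.B), by
      rw [hset]; exact ⟨u, u.2, rfl⟩⟩ : {y : G ⧸ P.B | Δ.Opp c y})) ?_
    intro u v huv
    have h3 : (u : G) • (QuotientGroup.mk (n0 : G) : G ⧸ P.B) = (v : G) • QuotientGroup.mk (n0 : G) :=
      congrArg Subtype.val huv
    have h4 := hfr ((v : G)⁻¹ * u) (mul_mem (inv_mem v.2) u.2) (by rw [mul_smul, h3, inv_smul_smul])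
    exact Subtype.ext (inv_mul_eq_one.1 h4).symm
  have hd : χ 1 = ((Nat.card {y : G ⧸ P.B | Δ.Opp c y} : ℕ) : ℂ) := by
    have h3 := h2 c 1 (one_smul _ _)
    rw [show χ 1 = _ from h3]
    congr 1
    exact Nat.card_congr (Equiv.subtypeEquivRight fun y => by simp)
  refine hle.trans ?_
  rcases Nat.lt_or_ge 1 (Nat.card {y : G ⧸ P.B | Δ.Opp c y}) with h5 | h5
  · exact (Cfsg.Agent.H460.IFO.lt_index_real h1 hreal hd ho1 h5 hX).le
  · exact h5.trans (Nat.pos_of_ne_zero X.index_ne_zero_of_finite)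

end Cfsg.Agent.H138.IF
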