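import Cfsg.Agent.H138.IF.BNIdx
import Cfsg.Agent.H85.RelEnd

/-!
# S5719, `|A|` odd: subgroups of odd order of the fixed points of a frame automorphism (helper138)

* `rel_index` : `D : RelBN.Rel R S G ι` with a longest element, `U_S ⊓ G` of odd order: a subgroup of odd order of `G`
  has index at least `|U_S ⊓ G|`;
* `fix_index` : the same for `((MM t) T)^τ` in `D.group k`, `k` algebraically closed of odd characteristic.
-/

set_option autoImplicit false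
set_option linter.unusedSectionVars false

namespace Cfsg.Agent.H138.IF

open CoxeterSystem Cfsg Cfsg.Lie Cfsg.Lie.ChevalleyDatum
open Cfsg.Agent.ChevalleyStructure Cfsg.Agent.ChevalleyStructure.Elts Cfsg.Agent.ChevalleyStructure.CoxeterGeom
  Cfsg.Agent.ChevalleyStructure.CoxeterGeomTypes Cfsg.Agent.ChevalleyStructure.NPerm
open Cfsg.Agent.Tits.Roots Cfsg.Agent.Tits.Core Cfsg.Agent.Nodes Cfsg.Agent.Nodes.Reps Cfsg.Agent.Nodes.BNOf
  Cfsg.Agent.Nodes.RGDChev Cfsg.Agent.Nodes.Bruhat Cfsg.Agent.Nodes.NormalForm Cfsg.Agent.Nodes.OppDec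
open Cfsg.Agent.KFacts.RgdField Cfsg.Agent.KFacts.RgdChevCoord
open Cfsg.Agent.BpExc Cfsg.Agent.BpExc.TorCent Cfsg.Agent.BpExc.TorChev Cfsg.Agent.BpExc.Tow
  Cfsg.Agent.BpExc.TowChev Cfsg.Agent.BpExc.Fr Cfsg.Agent.BpExc.Pair Cfsg.Agent.BpExc.LangFr Cfsg.Agent.GpExc.Field
  Cfsg.Agent.BpExc.NChev Cfsg.Agent.BpExc.Asm Cfsg.Agent.BpExc.Zc Cfsg.Agent.BpExc.RelBN Cfsg.Agent.BpExc.SubBN
  Cfsg.Agent.BpExc.FixRel

universe u v

section Rel

variable {I W Y : Type*} [Fintype I] [DecidableEq I] [Group W] [Group Y] {M : CoxeterMatrix I}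
  {cs : CoxeterSystem M W} {A : I → I → ℤ} {h : IsCartan M A} {p : ℕ} {T : Subgroup Y} {n : I → Y}
  {X : (I → ℤ) → Subgroup Y}

/-- **Subgroups of odd order of a group with relative root data.** -/
theorem rel_index {R : RGD cs h p T n X} {S : Set (I → ℤ)} {G : Subgroup Y} {ι : Type*} (D : RelBN.Rel R S G ι)
    [Finite W] [Finite ↥G] (hopp : ∃ v ∈ Subgroup.closure (Set.range D.w), ∀ a ∈ Sp S, rep cs h v a ≤ 0)
    (hodd : Odd (Nat.card ↥(RGD.Sup X (Sp S) ⊓ G : Subgroup Y))) {Q : Subgroup ↥G} (hQ : Odd (Nat.card ↥Q)) :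
    Nat.card ↥(RGD.Sup X (Sp S) ⊓ G : Subgroup Y) ≤ Q.index := by
  obtain ⟨v, hv, hneg⟩ := hopp
  -- a representative of `v` in the monomial subgroup
  have hrep : ∀ v ∈ Subgroup.closure (Set.range D.w), ∃ g ∈ D.bn.N, Rp cs R.nsys v (g : Y) := by
    intro v hv
    induction hv using Subgroup.closure_induction with
    | mem x hx =>
      obtain ⟨i, rfl⟩ := hx
      exact ⟨D.kk i, Subgroup.mem_sup_left (Subgroup.subset_closure ⟨i, rfl⟩), D.rp i⟩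
    | one => exact ⟨1, one_mem _, rp_one⟩
    | mul x y _ _ h1 h2 =>
      obtain ⟨k, hk, hk'⟩ := h1
      obtain ⟨l, hl, hl'⟩ := h2
      exact ⟨k * l, mul_mem hk hl, hk'.mul hl'⟩
    | inv x _ h1 =>
      obtain ⟨k, hk, hk'⟩ := h1
      exact ⟨k⁻¹, inv_mem hk, hk'.inv⟩
  obtain ⟨g, hg, hgv⟩ := hrep v⁻¹ (inv_mem hv)
  have hgv' : Rp cs R.nsys v (g : Y)⁻¹ := by
    have := hgv.inv
    rwa [inv_inv] at this
  have hc : Nat.card ↥((RGD.Sup X (Sp S)).subgroupOf G) = Nat.card ↥(RGD.Sup X (Sp S) ⊓ G : Subgroup Y) := by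
    rw [← Subgroup.inf_subgroupOf_right]
    exact Nat.card_congr (Subgroup.subgroupOfEquivOfLe inf_le_right).toEquiv
  rw [← hc] at hodd ⊢
  refine bn_index D.bn ((RGD.Sup X (Sp S)).subgroupOf G) (T.subgroupOf G) ?_ ?_ ?_ ?_ hg ?_ hodd hQ
  · rw [D.bn_B]; exact le_sup_left
  · rw [D.bn_B]; exact le_sup_right
  · intro b hb
    obtain ⟨u, hu, huG, t, ht, htG, e⟩ := D.mem_bn_B.1 hb
    exact ⟨⟨u, huG⟩, hu, ⟨t, htG⟩, ht, Subtype.ext e⟩
  · intro m hm t ht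
    obtain ⟨w, -, hw⟩ := D.bn_N_le (inv_mem hm)
    have h1 := (Subgroup.mem_normalizer_iff.1 hw.mem_normalizer (t : Y)).1 ht
    have h2 : ((m⁻¹ : ↥G) : Y) * t * ((m⁻¹ : ↥G) : Y)⁻¹ ∈ T := h1
    have h3 : ((m⁻¹ * t * m : ↥G) : Y) = ((m⁻¹ : ↥G) : Y) * t * ((m⁻¹ : ↥G) : Y)⁻¹ := by
      simp
    show ((m⁻¹ * t * m : ↥G) : Y) ∈ T
    rw [h3]
    exact h2
  · intro u hu hB
    have h1 : ((g⁻¹ * u * g : ↥G) : Y) ∈ RGD.B cs h T X := D.bn_B_le hB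
    have h3 : ((g⁻¹ * u * g : ↥G) : Y) = (g : Y)⁻¹ * (u : Y) * ((g : Y)⁻¹)⁻¹ := by simp
    rw [h3] at h1
    have h2 : (g : Y)⁻¹ * (u : Y) * ((g : Y)⁻¹)⁻¹ ∈ UN cs h X :=
      conj_mem_Sup R hgv' (S := Sp S) (S' := Neg cs h) (fun a ha => D.root a ha.1)
        (fun a ha => ⟨(D.root a ha.1).act _, hneg a ha⟩) hu
    have h4 := eq_one_of_mem_UN_of_mem_B R h2 h1
    rw [conj_eq_one_iff] at h4
    exact Subtype.ext h4

end Rel

variable {D : ChevalleyDatum} {l : ℕ} {M : CoxeterMatrix (Fin l)} (hp : IsType D l M)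
  {W : Type v} [Group W] (cs : CoxeterSystem M W) {k : Type u} [Field k]

/-- **Subgroups of odd order of the fixed points of a frame automorphism in a centraliser.** -/
theorem fix_index [IsAlgClosed k] (hk : LocFin k) {r e : ℕ} [Fact r.Prime] [CharP k r] (hr2 : r ≠ 2)
    {t : ↥(D.group k)} (ht : t ∈ TT D k) (he : 0 < e) {τ : MulAut ↥(D.group k)}
    (hτ : IsFrob r e τ) {g : (Fin l → ℤ) ≃+ (Fin l → ℤ)} (F : Fr cs hp.isCartan (TT D k) (XX D l k) τ g)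
    (hτt : τ t = t) (hpos : ∀ a ∈ Sx cs hp.isCartan (ch hp) t, 0 ≤ a → 0 ≤ g a)
    [Finite ↥((MM cs hp.isCartan (XX D l k) (ch hp) t ⊔ TT D k) ⊓ fixedSubgroup τ)]
    {Q : Subgroup ↥((MM cs hp.isCartan (XX D l k) (ch hp) t ⊔ TT D k) ⊓ fixedSubgroup τ)}
    (hQ : Odd (Nat.card ↥Q)) :
    Nat.card ↥(RGD.Sup (XX D l k) (Sp (Sx cs hp.isCartan (ch hp) t)) ⊓ fixedSubgroup τ) ≤ Q.index := by
  have hWf := finite_W hp cs
  obtain ⟨E, hE0⟩ := Cfsg.Agent.H85.RelEnd.frame hp cs hk ht he hτ F hτt hpos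
  have hS := EndInst.zclosed hp cs hk r ht
  obtain ⟨h1, h2, h3, h4, h5, h6⟩ := hE0 E le_rfl
  obtain ⟨lam, hlam, hlpos⟩ := h1.exists_lam hS
  have hZ := EndInst.commZ (k := k) hp cs E
  have hfix := FixEnd.fx h1 hZ hS h2 hlam hlpos h3
  have hle : ∀ a, Xj hp E a ≤ XX D l k a := fun a => by rw [← XL_eq (k := k) hp hk]; exact le_XL E a
  -- the unipotent group
  have hUe : RGD.Sup (XX D l k) (Sp (Sx cs hp.isCartan (ch hp) t)) ⊓ fixedSubgroup τ =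
      RGD.Sup (Xj hp E) (Sp (Sx cs hp.isCartan (ch hp) t)) ⊓
        Gf (Tj hp E) (Xj hp E) (Sx cs hp.isCartan (ch hp) t) τ := by
    apply le_antisymm
    · rintro u ⟨hu, hτu⟩
      have hu' := h6 (Sp (Sx cs hp.isCartan (ch hp) t)) (fun a ha => ha.1) u hu hτu
      exact ⟨hu', Sup_le_GS (S' := Sp (Sx cs hp.isCartan (ch hp) t)) (fun a ha => ha.1) hu', hτu⟩
    · rintro u ⟨hu, hτu⟩
      refine ⟨?_, hτu.2⟩
      exact (RGD.Sup_le fun a ha => (hle a).trans (RGD.le_Sup ha) :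
        RGD.Sup (Xj hp E) (Sp (Sx cs hp.isCartan (ch hp) t)) ≤
          RGD.Sup (XX D l k) (Sp (Sx cs hp.isCartan (ch hp) t))) hu
  rw [hUe]
  have hfin : Finite ↥(Gf (Tj hp E) (Xj hp E) (Sx cs hp.isCartan (ch hp) t) τ) := by rw [h5]; infer_instance
  have hodd : Odd (Nat.card ↥(RGD.Sup (Xj hp E) (Sp (Sx cs hp.isCartan (ch hp) t)) ⊓
      Gf (Tj hp E) (Xj hp E) (Sx cs hp.isCartan (ch hp) t) τ)) := by
    have h7 : IsPGroup r ↥(RGD.Sup (Xj hp E) (Sp (Sx cs hp.isCartan (ch hp) t))) :=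
      ((tow (k := k) hp cs hk r).rgd E).isPGroup_of_pos fun a ha => ⟨hS.root a ha.1, ha.2⟩
    have h8 := h7.to_le (inf_le_left : RGD.Sup (Xj hp E) (Sp (Sx cs hp.isCartan (ch hp) t)) ⊓
      Gf (Tj hp E) (Xj hp E) (Sx cs hp.isCartan (ch hp) t) τ ≤ _)
    have hfin' : Finite ↥(RGD.Sup (Xj hp E) (Sp (Sx cs hp.isCartan (ch hp) t)) ⊓
      Gf (Tj hp E) (Xj hp E) (Sx cs hp.isCartan (ch hp) t) τ) := Finite.Set.subset _ inf_le_right
    obtain ⟨m, hm⟩ := IsPGroup.iff_card.1 h8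
    rw [hm]
    exact Odd.pow ((Fact.out : r.Prime).odd_of_ne_two hr2)
  have key : ∀ G : Subgroup ↥(D.group k), G = Gf (Tj hp E) (Xj hp E) (Sx cs hp.isCartan (ch hp) t) τ →
      ∀ Q : Subgroup ↥G, Odd (Nat.card ↥Q) →
        Nat.card ↥(RGD.Sup (Xj hp E) (Sp (Sx cs hp.isCartan (ch hp) t)) ⊓
          Gf (Tj hp E) (Xj hp E) (Sx cs hp.isCartan (ch hp) t) τ) ≤ Q.index := by
    rintro G rfl Q hQ
    obtain ⟨v, hv, g', -, -, hneg⟩ := FixRel.exists_opp h1 hZ hS h2 hlam hlpos hfix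
    exact rel_index (FixRel.rel h1 hZ hS h2 hlam hlpos hfix) ⟨v, hv, hneg⟩ hodd hQ
  exact key _ h5.symm Q hQ

end Cfsg.Agent.H138.IF
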